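import Groth.Agent.H61.HmapFunct
import Groth.Agent.S4179
import Groth.Prelude.Def_FinFr

/-!
# The absolute Frobenius acts trivially on cohomology with constant coefficients
-/

set_option autoImplicit false
set_option backward.isDefEq.respectTransparency false
universe u

open CategoryTheory CategoryTheory.Limits AlgebraicGeometry Opposite CategoryTheory.Abelian

namespace Groth.Agent.H47.FrobConst

variable (p : ℕ) [Fact p.Prime]

/-- Iterates `frob^(n+1)` of the absolute Frobenius. -/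
noncomputable def frobPow (Y : Scheme.{u}) [FrobSch.IsCharP Y p] : ℕ → (Y ⟶ Y)
  | 0 => FrobSch.frob Y p
  | n + 1 => frobPow Y n ≫ FrobSch.frob Y p

theorem frobPow_comp {X Y : Scheme.{u}} [FrobSch.IsCharP X p] [FrobSch.IsCharP Y p] (f : X ⟶ Y) :
    ∀ n, frobPow p X n ≫ f = f ≫ frobPow p Y n
  | 0 => FrobSch.frob_comp p f
  | n + 1 => by
    simp only [frobPow, Category.assoc]
    rw [FrobSch.frob_comp p f, ← Category.assoc, frobPow_comp f n, Category.assoc]

theorem frobPow_appTop (Y : Scheme.{u}) [FrobSch.IsCharP Y p] (s : Γ(Y, ⊤)) :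
    ∀ n, (frobPow p Y n).appTop s = s ^ p ^ (n + 1)
  | 0 => by simpa [frobPow] using FrobSch.frob_appTop Y p s
  | n + 1 => by
    simp only [frobPow, Scheme.Hom.comp_appTop, ConcreteCategory.comp_apply]
    refine (congrArg _ (FrobSch.frob_appTop Y p s)).trans ?_
    refine (map_pow (frobPow p Y n).appTop.hom s p).trans ?_
    rw [frobPow_appTop Y s n, ← pow_mul]
    ring

theorem frobPow_spec (A : Type u) [CommRing A] [FrobSch.IsCharP (Spec (CommRingCat.of A)) p] (n : ℕ)
    (ψ : A →+* A) (hψ : ∀ r, ψ r = r ^ p ^ (n + 1)) :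
    frobPow p (Spec (CommRingCat.of A)) n = Spec.map (CommRingCat.ofHom ψ) := by
  refine ext_of_isAffine ?_
  ext s
  obtain ⟨a, rfl⟩ := (ConcreteCategory.bijective_of_isIso (Scheme.ΓSpecIso (CommRingCat.of A)).inv).2 s
  refine (frobPow_appTop p _ _ n).trans ?_
  refine Eq.trans ?_ (ConcreteCategory.congr_hom (Scheme.ΓSpecIso_inv_naturality (CommRingCat.ofHom ψ)) a)
  simp only [ConcreteCategory.comp_apply]
  refine Eq.trans ?_ (congrArg _ (hψ a).symm)
  exact (map_pow (Scheme.ΓSpecIso (CommRingCat.of A)).inv.hom a _).symm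

/-- The relative Frobenius of a morphism, to the fibre product with the absolute Frobenius. -/
noncomputable abbrev rel {U Y : Scheme.{u}} [FrobSch.IsCharP U p] [FrobSch.IsCharP Y p] (h : U ⟶ Y) :
    U ⟶ pullback h (FrobSch.frob Y p) :=
  pullback.lift (FrobSch.frob U p) h (FrobSch.frob_comp p h)

theorem rel_fst {U Y : Scheme.{u}} [FrobSch.IsCharP U p] [FrobSch.IsCharP Y p] (h : U ⟶ Y) :
    rel p h ≫ pullback.fst h (FrobSch.frob Y p) = FrobSch.frob U p := pullback.lift_fst _ _ _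

theorem rel_snd {U Y : Scheme.{u}} [FrobSch.IsCharP U p] [FrobSch.IsCharP Y p] (h : U ⟶ Y) :
    rel p h ≫ pullback.snd h (FrobSch.frob Y p) = h := pullback.lift_snd _ _ _

theorem rel_natural {U V Y : Scheme.{u}} [FrobSch.IsCharP U p] [FrobSch.IsCharP V p] [FrobSch.IsCharP Y p]
    (hU : U ⟶ Y) (hV : V ⟶ Y) (k : U ⟶ V) (hk : k ≫ hV = hU)
    (t : pullback hU (FrobSch.frob Y p) ⟶ pullback hV (FrobSch.frob Y p))
    (ht₁ : t ≫ pullback.fst _ _ = pullback.fst _ _ ≫ k) (ht₂ : t ≫ pullback.snd _ _ = pullback.snd _ _) :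
    k ≫ rel p hV = rel p hU ≫ t := by
  refine pullback.hom_ext ?_ ?_
  · rw [Category.assoc, rel_fst, Category.assoc, ht₁, reassoc_of% (rel_fst p hU)]
    exact (FrobSch.frob_comp p k).symm
  · rw [Category.assoc, rel_snd, Category.assoc, ht₂, rel_snd, hk]

theorem isIso_rel {U Y : Scheme.{u}} [FrobSch.IsCharP U p] [FrobSch.IsCharP Y p] (h : U ⟶ Y) [Etale h] :
    IsIso (rel p h) :=
  Groth.Agent.H61.EtaleFrob.isIso_relFrob p h (rel p h) (rel_fst p h) (rel_snd p h)

/-- The relative Frobenius as an isomorphism of functors. -/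
noncomputable def relIso (Y : Scheme.{u}) [FrobSch.IsCharP Y p] :
    𝟭 Y.Etale ≅ EtCoh.bc (FrobSch.frob Y p) :=
  NatIso.ofComponents (fun U =>
    letI hc := FrobSch.IsCharP.of_hom (X := U.left) (Y := Y) U.hom p
    MorphismProperty.Over.isoMk
      (@asIso _ _ _ _ (@rel p _ U.left Y hc _ U.hom) (@isIso_rel p _ U.left Y hc _ U.hom U.prop))
      (@rel_snd p _ U.left Y hc _ U.hom))
    fun {U V} k => by
      refine MorphismProperty.Over.Hom.ext ?_
      exact @rel_natural p _ U.left V.left Y (FrobSch.IsCharP.of_hom (X := U.left) (Y := Y) U.hom p)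
        (FrobSch.IsCharP.of_hom (X := V.left) (Y := Y) V.hom p) _ U.hom V.hom k.left
        (MorphismProperty.Over.w k) _ (pullback.lift_fst _ _ _) (pullback.lift_snd _ _ _)

section Endo

variable {Λ : Type} [CommRing Λ] [Fact FinFr.PullExact.{u}]

theorem endConstAdd_comp {Y : Scheme.{u}} (f g : Y ⟶ Y) (i : ℕ) (x : EtCoh.H Y (EtCoh.const Y Λ) i) :
    FinFr.endConstAdd (Λ := Λ) (f ≫ g) i x = FinFr.endConstAdd (Λ := Λ) f i (FinFr.endConstAdd (Λ := Λ) g i x) := by
  haveI := FinFr.pullExact_out (f ≫ g)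
  haveI := FinFr.pullExact_out f
  haveI := FinFr.pullExact_out g
  exact Groth.Agent.H61.HmapFunct.chain f g (f ≫ g) rfl i Λ x

theorem endConstAdd_of_iso {Y : Scheme.{u}} (φ : Y ⟶ Y) (γ : 𝟭 Y.Etale ≅ EtCoh.bc φ) (i : ℕ)
    (x : EtCoh.H Y (EtCoh.const Y Λ) i) : FinFr.endConstAdd (Λ := Λ) φ i x = x := by
  haveI := FinFr.pullExact_out φ
  have hZ : (Groth.Agent.S4179.transf φ γ).app (EtCoh.const Y ℤ) = (EtCore.pullConst φ ℤ).hom := by
    rw [← cancel_epi (EtCore.pullConst φ ℤ).inv, Iso.inv_hom_id]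
    exact Groth.Agent.S4179.const_transf φ γ
  have hM : (Groth.Agent.S4179.transf φ γ).app (EtCoh.const Y Λ) = (EtCore.pullConst φ Λ).hom :=
    Groth.Agent.H61.HmapFunct.hom_ext_of_int ((EtCore.constAdj Y).comp (EtCoh.pullPushAdj φ))
      (Functor.whiskerLeft (constantSheaf Y.smallEtaleTopology AddCommGrpCat.{u + 1})
        (Groth.Agent.S4179.transf φ γ))
      (EtCore.pullConstIso φ).hom hZ (AddCommGrpCat.of (ULift.{u + 1} Λ))
  have h := Groth.Agent.S4179.Hpull_transf φ γ (EtCoh.const Y Λ) i x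
  rw [hM] at h
  simpa [FinFr.endConstAdd, Sheaf.H.map_apply] using h

theorem endConstAdd_frobPow (Y : Scheme.{u}) [FrobSch.IsCharP Y p] (i : ℕ)
    (x : EtCoh.H Y (EtCoh.const Y Λ) i) : ∀ n, FinFr.endConstAdd (Λ := Λ) (frobPow p Y n) i x = x
  | 0 => endConstAdd_of_iso _ (relIso p Y) i x
  | n + 1 => by
    show FinFr.endConstAdd (Λ := Λ) (frobPow p Y n ≫ FrobSch.frob Y p) i x = x
    rw [endConstAdd_comp, endConstAdd_of_iso _ (relIso p Y) i x, endConstAdd_frobPow Y i x n]

end Endo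

end Groth.Agent.H47.FrobConst
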